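/-
The heart of the permutation module of a symmetric group over the field with two elements, realised
as the even-weight vectors vanishing at a fixed point, with the action corrected by the all-ones vector.
-/
import Mathlib
import Cfsg.Agent.Lib.Classical.IsoAbs

set_option autoImplicit false
set_option linter.unusedSectionVars false

namespace Cfsg.Agent.Lib.Classical.Heart

open Abs

variable {α : Type} [Fintype α] [DecidableEq α]

local notation "K" => ZMod 2

/-- Even-weight vectors vanishing at `z`. -/
def heart (z : α) : Submodule K (α → K) :=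
  LinearMap.ker (∑ i, LinearMap.proj (R := K) (φ := fun _ : α => K) i) ⊓
    LinearMap.ker (LinearMap.proj (R := K) (φ := fun _ : α => K) z)

lemma mem_heart {z : α} {v : α → K} : v ∈ heart z ↔ ∑ i, v i = 0 ∧ v z = 0 := by
  simp [heart, LinearMap.mem_ker, LinearMap.sum_apply]

/-- The dot product. -/
def dotB : LinearMap.BilinForm K (α → K) :=
  LinearMap.mk₂ K (fun u v => ∑ i, u i * v i)
    (by intro a b c; simp [add_mul, Finset.sum_add_distrib])
    (by intro c a b; simp [Finset.mul_sum, mul_assoc])
    (by intro a b c; simp [mul_add, Finset.sum_add_distrib])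
    (by intro c a b; simp only [Pi.smul_apply, smul_eq_mul, Finset.mul_sum]
        exact Finset.sum_congr rfl fun i _ => by ring)

@[simp] lemma dotB_apply (u v : α → K) : dotB u v = ∑ i, u i * v i := rfl

lemma two_eq (x : K) : x + x = 0 := CharTwo.add_self_eq_zero x

lemma mul_self_K (x : K) : x * x = x := by
  revert x; decide

/-- The action with the correction. -/
def rhoFun (z : α) (σ : Equiv.Perm α) (v : α → K) : α → K :=
  fun i => v (σ⁻¹ i) + v (σ⁻¹ z)

@[simp] lemma rhoFun_apply (z : α) (σ : Equiv.Perm α) (v : α → K) (i : α) :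
    rhoFun z σ v i = v (σ⁻¹ i) + v (σ⁻¹ z) := rfl

lemma sum_perm (σ : Equiv.Perm α) (v : α → K) : ∑ i, v (σ⁻¹ i) = ∑ i, v i :=
  Equiv.sum_comp σ⁻¹ v

lemma rho_mem (hc : Even (Fintype.card α)) (z : α) (σ : Equiv.Perm α) (v : α → K) (hv : v ∈ heart z) :
    rhoFun z σ v ∈ heart z := by
  rw [mem_heart] at hv ⊢
  constructor
  · simp only [rhoFun_apply, Finset.sum_add_distrib, sum_perm, hv.1, Finset.sum_const, Finset.card_univ,
      zero_add, nsmul_eq_mul]
    have : ((Fintype.card α : ℕ) : K) = 0 := by
      rw [ZMod.natCast_eq_zero_iff]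
      exact hc.two_dvd
    rw [this, zero_mul]
  · simp [two_eq]

lemma rho_one (z : α) (v : α → K) (hv : v ∈ heart z) : rhoFun z 1 v = v := by
  ext i
  simp [(mem_heart.mp hv).2]

lemma rho_mul (hc : Even (Fintype.card α)) (z : α) (σ τ : Equiv.Perm α) (v : α → K) (hv : v ∈ heart z) :
    rhoFun z (σ * τ) v = rhoFun z σ (rhoFun z τ v) := by
  ext i
  simp only [rhoFun_apply, mul_inv_rev, Equiv.Perm.coe_mul, Function.comp_apply]
  have h := two_eq (v (τ⁻¹ z))
  linear_combination - h

/-- The group action on the heart. -/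
def rhoLin (hc : Even (Fintype.card α)) (z : α) (σ : Equiv.Perm α) : heart z ≃ₗ[K] heart z where
  toFun v := ⟨rhoFun z σ v.1, rho_mem hc z σ v.1 v.2⟩
  invFun v := ⟨rhoFun z σ⁻¹ v.1, rho_mem hc z σ⁻¹ v.1 v.2⟩
  map_add' u v := by
    apply Subtype.ext
    ext i
    simp only [Submodule.coe_add, rhoFun_apply, Pi.add_apply]
    ring
  map_smul' c u := by
    apply Subtype.ext
    ext i
    simp only [Submodule.coe_smul, rhoFun_apply, Pi.smul_apply, smul_eq_mul, RingHom.id_apply]
    ring
  left_inv v := by
    apply Subtype.ext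
    change rhoFun z σ⁻¹ (rhoFun z σ v.1) = v.1
    rw [← rho_mul hc z _ _ _ v.2, inv_mul_cancel, rho_one z _ v.2]
  right_inv v := by
    apply Subtype.ext
    change rhoFun z σ (rhoFun z σ⁻¹ v.1) = v.1
    rw [← rho_mul hc z _ _ _ v.2, mul_inv_cancel, rho_one z _ v.2]

@[simp] lemma rhoLin_coe (hc : Even (Fintype.card α)) (z : α) (σ : Equiv.Perm α) (v : heart z) :
    (rhoLin hc z σ v : α → K) = rhoFun z σ v.1 := rfl

/-- The action as a homomorphism to the automorphism group. -/
def rhoHom (hc : Even (Fintype.card α)) (z : α) : Equiv.Perm α →* (heart z ≃ₗ[K] heart z) where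
  toFun := rhoLin hc z
  map_one' := by
    apply LinearEquiv.ext
    intro v
    apply Subtype.ext
    exact rho_one z v.1 v.2
  map_mul' σ τ := by
    apply LinearEquiv.ext
    intro v
    apply Subtype.ext
    exact rho_mul hc z σ τ v.1 v.2

@[simp] lemma rhoHom_apply (hc : Even (Fintype.card α)) (z : α) (σ : Equiv.Perm α) (v : heart z) :
    (rhoHom hc z σ v : α → K) = rhoFun z σ v.1 := rfl

/-- Faithfulness. -/
theorem rhoHom_injective (hc : Even (Fintype.card α)) (h6 : 6 ≤ Fintype.card α) (z : α) :
    Function.Injective (rhoHom hc z) := by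
  rw [injective_iff_map_eq_one]
  intro σ hσ
  have hfix : ∀ v ∈ heart z, rhoFun z σ v = v := by
    intro v hv
    have := congrArg (fun g : heart z ≃ₗ[K] heart z => ((g ⟨v, hv⟩ : heart z) : α → K)) hσ
    exact this
  -- the test vectors
  let e : α → α → α → K := fun i j k => (if k = i then 1 else 0) + (if k = j then 1 else 0)
  have he : ∀ i j, i ≠ z → j ≠ z → e i j ∈ heart z := by
    intro i j hi hj
    rw [mem_heart]
    constructor
    · simp only [e, Finset.sum_add_distrib, Finset.sum_ite_eq', Finset.mem_univ, if_true]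
      exact two_eq 1
    · simp [e, Ne.symm hi, Ne.symm hj]
  -- three-point lemma: a finset of at most four elements misses a point
  have hmiss : ∀ a b c d : α, ∃ k, k ≠ a ∧ k ≠ b ∧ k ≠ c ∧ k ≠ d := by
    intro a b c d
    by_contra hcon
    push Not at hcon
    have hsub : (Finset.univ : Finset α) ⊆ {a, b, c, d} := by
      intro k _
      by_cases h1 : k = a
      · simp [h1]
      by_cases h2 : k = b
      · simp [h2]
      by_cases h3 : k = c
      · simp [h3]
      have := hcon k h1 h2 h3
      simp [this]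
    have h1 := Finset.card_le_card hsub
    have h2 : ({a, b, c, d} : Finset α).card ≤ 4 := Finset.card_le_four
    rw [Finset.card_univ] at h1
    omega
  have hkey : ∀ i j, i ≠ z → j ≠ z → i ≠ j → σ⁻¹ i = i ∨ σ⁻¹ i = j := by
    intro i j hi hj hij
    have h1 := hfix (e i j) (he i j hi hj)
    -- the correction term vanishes
    have hz : e i j (σ⁻¹ z) = 0 := by
      by_contra hne
      have hone : e i j (σ⁻¹ z) = 1 := by
        generalize e i j (σ⁻¹ z) = x at hne
        revert x; decide
      obtain ⟨k, hk1, hk2, hk3, hk4⟩ := hmiss i j (σ i) (σ j)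
      have h2 := congrFun h1 k
      rw [rhoFun_apply, hone] at h2
      have h3 : e i j (σ⁻¹ k) = 0 := by
        have h5 : σ⁻¹ k ≠ i := by
          intro h
          apply hk3
          rw [← h]
          simp
        have h6 : σ⁻¹ k ≠ j := by
          intro h
          apply hk4
          rw [← h]
          simp
        change (if σ⁻¹ k = i then (1 : K) else 0) + (if σ⁻¹ k = j then 1 else 0) = 0
        rw [if_neg h5, if_neg h6, add_zero]
      have h4 : e i j k = 0 := by
        simp [e, hk1, hk2]
      rw [h3, h4] at h2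
      simp at h2
    have h2 := congrFun h1 i
    rw [rhoFun_apply, hz, add_zero] at h2
    have h3 : e i j i = 1 := by simp [e, hij]
    rw [h3] at h2
    by_contra hcon
    push Not at hcon
    have : e i j (σ⁻¹ i) = 0 := by
      change (if σ⁻¹ i = i then (1 : K) else 0) + (if σ⁻¹ i = j then 1 else 0) = 0
      rw [if_neg hcon.1, if_neg hcon.2, add_zero]
    rw [this] at h2
    exact zero_ne_one h2
  have hne : ∀ i, i ≠ z → σ⁻¹ i = i := by
    intro i hi
    obtain ⟨j, hj1, hj2, -, -⟩ := hmiss i z z z
    obtain ⟨k, hk1, hk2, hk3, -⟩ := hmiss i z j j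
    rcases hkey i j hi hj2 (Ne.symm hj1) with h | h
    · exact h
    rcases hkey i k hi hk2 (Ne.symm hk1) with h' | h'
    · exact h'
    · exact absurd (h.symm.trans h') (Ne.symm hk3)
  have hzz : σ⁻¹ z = z := by
    by_contra hcon
    have h1 := hne (σ⁻¹ z) hcon
    have h2 : σ⁻¹ (σ⁻¹ z) = σ⁻¹ z := h1
    exact hcon (σ⁻¹.injective h2)
  have : σ⁻¹ = 1 := by
    ext i
    by_cases hi : i = z
    · rw [hi, hzz]; rfl
    · rw [hne i hi]; rfl
  exact inv_eq_one.mp this

/-- Dimension of the heart. -/
lemma finrank_heart (hz2 : 2 ≤ Fintype.card α) (z : α) :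
    Module.finrank K (heart z) + 2 = Fintype.card α := by
  classical
  set f : (α → K) →ₗ[K] K := ∑ i, LinearMap.proj (R := K) (φ := fun _ : α => K) i with hf
  set g : (α → K) →ₗ[K] K := LinearMap.proj (R := K) (φ := fun _ : α => K) z with hg
  have h1 := LinearMap.finrank_range_add_finrank_ker (f.prod g)
  obtain ⟨w, hw⟩ : ∃ w, w ≠ z := by
    have : Nontrivial α := Fintype.one_lt_card_iff_nontrivial.mp (by omega)
    exact exists_ne z
  have hfv : ∀ v, f v = ∑ i, v i := by
    intro v
    simp [hf, LinearMap.sum_apply]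
  have h2 : LinearMap.range (f.prod g) = ⊤ := by
    rw [LinearMap.range_eq_top]
    rintro ⟨c, d⟩
    refine ⟨(c + d) • Pi.single w 1 + d • Pi.single z 1, ?_⟩
    ext
    · change f _ = c
      rw [hfv]
      simp only [Pi.add_apply, Pi.smul_apply, smul_eq_mul,
        Finset.sum_add_distrib, ← Finset.mul_sum, Finset.sum_pi_single', Finset.mem_univ, if_true,
        mul_one]
      have := two_eq d
      linear_combination this
    · simp [hg, hw.symm]
  rw [h2, finrank_top, LinearMap.ker_prod, Module.finrank_prod, Module.finrank_self,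
    Module.finrank_fintype_fun_eq_card] at h1
  have : LinearMap.ker f ⊓ LinearMap.ker g = heart z := rfl
  rw [this] at h1
  omega

/-- Non-degeneracy on the heart. -/
lemma heart_nondeg (hc : Even (Fintype.card α)) (hz2 : 2 ≤ Fintype.card α) (z : α) (u : heart z)
    (hu : ∀ v : heart z, dotB u.1 v.1 = 0) : u = 0 := by
  classical
  let e : α → α → α → K := fun i j k => (if k = i then 1 else 0) + (if k = j then 1 else 0)
  have he : ∀ i j, i ≠ z → j ≠ z → e i j ∈ heart z := by
    intro i j hi hj
    rw [mem_heart]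
    constructor
    · simp only [e, Finset.sum_add_distrib, Finset.sum_ite_eq', Finset.mem_univ, if_true]
      exact two_eq 1
    · simp [e, Ne.symm hi, Ne.symm hj]
  have hconst : ∀ i j, i ≠ z → j ≠ z → u.1 i = u.1 j := by
    intro i j hi hj
    have h1 := hu ⟨e i j, he i j hi hj⟩
    simp only [dotB_apply, e, mul_add, Finset.sum_add_distrib, mul_ite, mul_one, mul_zero,
      Finset.sum_ite_eq', Finset.mem_univ, if_true] at h1
    have h2 := two_eq (u.1 j)
    linear_combination h1 - h2
  obtain ⟨hsum, hzero⟩ := mem_heart.mp u.2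
  obtain ⟨w, hw⟩ : ∃ w, w ≠ z := by
    have : Nontrivial α := Fintype.one_lt_card_iff_nontrivial.mp (by omega)
    exact exists_ne z
  have hall : ∀ i, u.1 i = if i = z then 0 else u.1 w := by
    intro i
    by_cases hi : i = z
    · simp [hi, hzero]
    · simp [hi, hconst i w hi hw]
  have hs : ((Fintype.card α - 1 : ℕ) : K) * u.1 w = 0 := by
    have h3 : ∑ i, u.1 i = ∑ i ∈ Finset.univ.erase z, u.1 w := by
      rw [← Finset.add_sum_erase _ _ (Finset.mem_univ z), hzero, zero_add]
      refine Finset.sum_congr rfl fun i hi => ?_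
      exact hconst i w (Finset.ne_of_mem_erase hi) hw
    rw [hsum] at h3
    simp only [Finset.sum_const, Finset.card_erase_of_mem (Finset.mem_univ z), Finset.card_univ,
      nsmul_eq_mul] at h3
    exact h3.symm
  have hodd : Odd (Fintype.card α - 1) := by
    obtain ⟨k, hk⟩ := hc
    exact ⟨k - 1, by omega⟩
  have hcast : ((Fintype.card α - 1 : ℕ) : K) = 1 := by
    obtain ⟨k, hk⟩ := hodd
    rw [hk]
    push_cast
    have : (2 : K) = 0 := by decide
    rw [this]
    ring
  rw [hcast, one_mul] at hs
  apply Subtype.ext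
  ext i
  rw [hall, hs]
  simp

lemma card_eq_zero_K (hc : Even (Fintype.card α)) : ((Fintype.card α : ℕ) : K) = 0 := by
  rw [ZMod.natCast_eq_zero_iff]
  exact hc.two_dvd

/-- The action preserves the dot product on the heart. -/
lemma rho_dot (hc : Even (Fintype.card α)) (z : α) (σ : Equiv.Perm α) (u v : α → K)
    (hu : u ∈ heart z) (hv : v ∈ heart z) : dotB (rhoFun z σ u) (rhoFun z σ v) = dotB u v := by
  obtain ⟨hu1, -⟩ := mem_heart.mp hu
  obtain ⟨hv1, -⟩ := mem_heart.mp hv
  simp only [dotB_apply, rhoFun_apply]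
  have h1 : ∀ i, (u (σ⁻¹ i) + u (σ⁻¹ z)) * (v (σ⁻¹ i) + v (σ⁻¹ z)) =
      u (σ⁻¹ i) * v (σ⁻¹ i) + v (σ⁻¹ z) * u (σ⁻¹ i) + u (σ⁻¹ z) * v (σ⁻¹ i) + u (σ⁻¹ z) * v (σ⁻¹ z) := by
    intro i; ring
  simp only [h1, Finset.sum_add_distrib, ← Finset.mul_sum, sum_perm, hu1, hv1, mul_zero, add_zero,
    Finset.sum_const, Finset.card_univ, nsmul_eq_mul, card_eq_zero_K hc, zero_mul]
  exact Equiv.sum_comp σ⁻¹ (fun i => u i * v i)

/-- The action as a homomorphism to the isometries of the dot product. -/
def heartIso (hc : Even (Fintype.card α)) (z : α) :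
    Equiv.Perm α →* isoG (fun u v : heart z => dotB u.1 v.1) where
  toFun σ := ⟨rhoHom hc z σ, fun u v => rho_dot hc z σ u.1 v.1 u.2 v.2⟩
  map_one' := by
    apply Subtype.ext
    exact (rhoHom hc z).map_one
  map_mul' σ τ := by
    apply Subtype.ext
    exact (rhoHom hc z).map_mul σ τ

lemma heartIso_injective (hc : Even (Fintype.card α)) (h6 : 6 ≤ Fintype.card α) (z : α) :
    Function.Injective (heartIso hc z) := by
  intro σ τ h
  apply rhoHom_injective hc h6 z
  exact congrArg Subtype.val h

/-- The restricted dot product is alternating. -/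
lemma dot_alt (z : α) : (dotB.restrict (heart z)).IsAlt := by
  intro v
  change ∑ i, v.1 i * v.1 i = 0
  simp only [mul_self_K]
  exact (mem_heart.mp v.2).1

lemma dot_nondeg (hc : Even (Fintype.card α)) (hz2 : 2 ≤ Fintype.card α) (z : α) :
    (dotB.restrict (heart z)).Nondegenerate := by
  constructor
  · intro u hu
    exact heart_nondeg hc hz2 z u hu
  · intro u hu
    apply heart_nondeg hc hz2 z u
    intro v
    have := hu v
    change ∑ i, v.1 i * u.1 i = 0 at this
    change ∑ i, u.1 i * v.1 i = 0
    rw [← this]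
    exact Finset.sum_congr rfl fun i _ => mul_comm _ _

end Cfsg.Agent.Lib.Classical.Heart
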