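/-
Siegel transformations of a quadratic space in abstract form, any characteristic.
-/
import Mathlib
import Cfsg.Agent.Lib.Classical.OrthOrder

set_option autoImplicit false
set_option linter.unusedSectionVars false

namespace Cfsg.Agent.Lib.Classical.Orth

open Cfsg.Agent.Lib.Classical.Witt Cfsg.Agent.Lib.Classical.Abs
open scoped commutatorElement

local notation "P" => QuadraticMap.polarBilin

variable {F V : Type*} [Field F] [AddCommGroup V] [Module F V] {Q : QuadraticForm F V}

/-- The Siegel transformation as a linear map. -/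
noncomputable def sgL (Q : QuadraticForm F V) (a w : V) : V →ₗ[F] V :=
  LinearMap.id + (P Q a).smulRight w - (P Q w).smulRight a - (Q w • P Q a).smulRight a

lemma sgL_apply (a w x : V) :
    sgL Q a w x = x + P Q a x • w - P Q w x • a - (Q w * P Q a x) • a := by
  simp [sgL]

lemma pol_self_of {a : V} (ha : Q a = 0) : P Q a a = 0 := by
  rw [pol_self, ha, mul_zero]

lemma sgL_pres {a w : V} (ha : Q a = 0) (hw : P Q a w = 0) (x : V) : Q (sgL Q a w x) = Q x := by
  have e : sgL Q a w x = x + (P Q a x) • w + (-(P Q w x + Q w * P Q a x)) • a := by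
    rw [sgL_apply]
    (module)
  rw [e, Q_comb, ha, pol_comm Q w a, hw, pol_comm Q x w, pol_comm Q x a]
  ring

lemma P_a_sgL {a w : V} (ha : Q a = 0) (hw : P Q a w = 0) (x : V) : P Q a (sgL Q a w x) = P Q a x := by
  rw [sgL_apply]
  simp only [map_add, map_sub, map_smul, smul_eq_mul, hw, pol_self_of ha]
  ring

lemma sgL_comp {a w w' : V} (ha : Q a = 0) (hw : P Q a w = 0) (hw' : P Q a w' = 0) (x : V) :
    sgL Q a w (sgL Q a w' x) = sgL Q a (w + w') x := by
  rw [sgL_apply a w, P_a_sgL ha hw', sgL_apply a (w + w'), sgL_apply a w']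
  have h1 : P Q w (x + P Q a x • w' - P Q w' x • a - (Q w' * P Q a x) • a)
      = P Q w x + P Q a x * P Q w w' := by
    simp only [map_add, map_sub, map_smul, smul_eq_mul, pol_comm Q w a, hw]
    ring
  rw [h1, Q_add, map_add, LinearMap.add_apply]
  (module)

lemma sgL_zero (a x : V) : sgL Q a 0 x = x := by
  rw [sgL_apply]
  simp

/-- The Siegel transformation in the orthogonal group: `x ↦ x + P(a,x) w - P(w,x) a - Q(w) P(a,x) a`
for `a` singular and `w ⊥ a`; the identity otherwise. -/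
noncomputable def sg (Q : QuadraticForm F V) (a w : V) : OG Q :=
  @dite _ (Q a = 0 ∧ P Q a w = 0) (Classical.propDecidable _) (fun h =>
    ⟨LinearEquiv.ofLinear (sgL Q a w) (sgL Q a (-w))
      (LinearMap.ext fun x => by
        change sgL Q a w (sgL Q a (-w) x) = x
        rw [sgL_comp h.1 h.2 (by rw [map_neg, h.2, neg_zero]), add_neg_cancel, sgL_zero])
      (LinearMap.ext fun x => by
        change sgL Q a (-w) (sgL Q a w x) = x
        rw [sgL_comp h.1 (by rw [map_neg, h.2, neg_zero]) h.2, neg_add_cancel, sgL_zero]),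
      fun u _ => sgL_pres h.1 h.2 u⟩) (fun _ => 1)

lemma sg_apply {a w : V} (ha : Q a = 0) (hw : P Q a w = 0) (x : V) :
    (sg Q a w).1 x = x + P Q a x • w - P Q w x • a - (Q w * P Q a x) • a := by
  rw [sg, dif_pos ⟨ha, hw⟩]
  exact sgL_apply a w x

lemma sg_add {a w w' : V} (ha : Q a = 0) (hw : P Q a w = 0) (hw' : P Q a w' = 0) :
    sg Q a w * sg Q a w' = sg Q a (w + w') := by
  apply OG_ext
  intro x
  rw [mul_apply', sg_apply ha hw, sg_apply ha hw', sg_apply ha (by rw [map_add, hw, hw', add_zero])]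
  rw [← sgL_apply, ← sgL_apply, ← sgL_apply, sgL_comp ha hw hw']

lemma sg_zero (a : V) : sg Q a 0 = 1 := by
  by_cases ha : Q a = 0
  · apply OG_ext
    intro x
    rw [sg_apply ha (map_zero _), one_apply']
    simp
  · rw [sg, dif_neg (fun h => ha h.1)]

lemma sg_neg {a w : V} (ha : Q a = 0) (hw : P Q a w = 0) : (sg Q a w)⁻¹ = sg Q a (-w) := by
  apply inv_eq_of_mul_eq_one_right
  rw [sg_add ha hw (by rw [map_neg, hw, neg_zero]), add_neg_cancel, sg_zero]

lemma sg_comm {a w w' : V} (ha : Q a = 0) (hw : P Q a w = 0) (hw' : P Q a w' = 0) :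
    sg Q a w * sg Q a w' = sg Q a w' * sg Q a w := by
  rw [sg_add ha hw hw', sg_add ha hw' hw, add_comm]

lemma sg_of_zero (w : V) : sg Q 0 w = 1 := by
  apply OG_ext
  intro x
  rw [sg_apply (map_zero _) (by simp), one_apply']
  simp

/-- Multiples of `a` contribute nothing. -/
lemma sg_self_smul {a : V} (ha : Q a = 0) (c : F) : sg Q a (c • a) = 1 := by
  apply OG_ext
  intro x
  rw [sg_apply ha (by rw [map_smul, pol_self_of ha, smul_zero]), one_apply', Q_smul, ha]
  simp only [map_smul, LinearMap.smul_apply, smul_eq_mul]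
  (module)

/-- Moving the scalar from the first to the second argument. -/
lemma sg_smul {a w : V} (ha : Q a = 0) (hw : P Q a w = 0) (c : F) : sg Q (c • a) w = sg Q a (c • w) := by
  apply OG_ext
  intro x
  rw [sg_apply (by rw [Q_smul, ha, mul_zero]) (by rw [map_smul, LinearMap.smul_apply, hw, smul_zero]),
    sg_apply ha (by rw [map_smul, hw, smul_zero]), Q_smul]
  simp only [map_smul, LinearMap.smul_apply, smul_eq_mul]
  (module)

/-- Conjugation. -/
lemma sg_conj {a w : V} (ha : Q a = 0) (hw : P Q a w = 0) (g : OG Q) :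
    g * sg Q a w * g⁻¹ = sg Q (g.1 a) (g.1 w) := by
  apply OG_ext
  intro x
  have h1 : Q (g.1 a) = 0 := by rw [OG_pres, ha]
  have h3 : P Q (g.1 a) (g.1 w) = 0 := by rw [OG_polar, hw]
  have h4 : P Q a (g⁻¹.1 x) = P Q (g.1 a) x := by
    rw [← OG_polar g a, inv_apply_self]
  have h5 : P Q w (g⁻¹.1 x) = P Q (g.1 w) x := by
    rw [← OG_polar g w, inv_apply_self]
  rw [mul_apply', mul_apply', sg_apply ha hw, sg_apply h1 h3, map_sub, map_sub, map_add, map_smul,
    map_smul, map_smul, inv_apply_self, OG_pres, h4, h5]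

/-- Symmetry in two singular orthogonal vectors. -/
lemma sg_swap {u v : V} (hu : Q u = 0) (hv : Q v = 0) (huv : P Q u v = 0) (c : F) :
    sg Q v (c • u) = sg Q u ((-c) • v) := by
  apply OG_ext
  intro x
  rw [sg_apply hv (by rw [map_smul, pol_comm, huv, smul_zero]),
    sg_apply hu (by rw [map_smul, huv, smul_zero]), Q_smul, Q_smul, hu, hv]
  simp only [map_smul, LinearMap.smul_apply, smul_eq_mul, neg_mul]
  (module)

/-- The commutator relation. -/
lemma comm_sg {u v z z' : V} (hu : Q u = 0) (hv : Q v = 0) (huv : P Q u v = 0)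
    (hzu : P Q u z = 0) (hzv : P Q v z = 0) (hz'u : P Q u z' = 0) (hz'v : P Q v z' = 0) :
    ⁅sg Q u z, sg Q v z'⁆ = sg Q u (P Q z z' • v) := by
  have h1 : (sg Q u z).1 v = v := by
    rw [sg_apply hu hzu, huv, pol_comm Q z v, hzv]
    simp
  have h3 : (sg Q u z).1 z' = z' - P Q z z' • u := by
    rw [sg_apply hu hzu, hz'u]
    simp
  rw [commutatorElement_def, sg_conj hv hz'v, h1, h3, sg_neg hv hz'v,
    sg_add hv (by rw [map_sub, hz'v, map_smul, pol_comm Q v u, huv, smul_zero, sub_zero])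
      (by rw [map_neg, hz'v, neg_zero])]
  have h4 : z' - P Q z z' • u + -z' = (-(P Q z z')) • u := by
    (module)
  rw [h4, sg_swap hu hv huv, neg_neg]

/-- Two Siegel vectors in the same direction. -/
lemma sg_eq_of_sing {u v : V} (hu : Q u = 0) (hv : Q v = 0) (huv : P Q u v = 0) (c : F) (y : V) :
    (sg Q u (c • v)).1 y = y + c • (P Q u y • v) - c • (P Q v y • u) := by
  rw [sg_apply hu (by rw [map_smul, huv, smul_zero]), Q_smul, hv]
  simp only [map_smul, LinearMap.smul_apply, smul_eq_mul]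
  (module)

/-- The move computation. -/
lemma sg_move {u x z : V} (hu : Q u = 0) (hd : P Q u (z - x) = 0) (hxz : Q x = Q z) (hs : P Q u x ≠ 0) :
    (sg Q u ((P Q u x)⁻¹ • (z - x))).1 x = z := by
  have hd' : P Q u ((P Q u x)⁻¹ • (z - x)) = 0 := by
    rw [map_smul, hd, smul_zero]
  rw [sg_apply hu hd', Q_smul, map_smul, LinearMap.smul_apply, map_sub, LinearMap.sub_apply, smul_eq_mul]
  have h1 : Q z = Q x + Q (z - x) + P Q x (z - x) := by
    rw [← Q_add]
    congr 1
    abel
  have h3 : Q (z - x) + P Q x (z - x) = 0 := by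
    linear_combination -h1 - hxz
  have h4 : P Q x (z - x) = P Q z x - P Q x x := by
    rw [map_sub, pol_comm Q x z]
  have h5 : ((P Q u x)⁻¹ * (P Q z x - P Q x x) + (P Q u x)⁻¹ * (P Q u x)⁻¹ * Q (z - x) * P Q u x) = 0 := by
    rw [← h4]
    have h8 : (P Q u x)⁻¹ * (P Q u x)⁻¹ * Q (z - x) * P Q u x = (P Q u x)⁻¹ * Q (z - x) := by
      field_simp
    rw [h8, ← mul_add, add_comm, h3, mul_zero]
  have h6 : x + P Q u x • (P Q u x)⁻¹ • (z - x) = z := by
    rw [smul_smul, mul_inv_cancel₀ hs, one_smul]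
    abel
  rw [h6]
  have h7 : (z - ((P Q u x)⁻¹ * (P Q z x - P Q x x)) • u -
      ((P Q u x)⁻¹ * (P Q u x)⁻¹ * Q (z - x) * P Q u x) • u) =
      z - ((P Q u x)⁻¹ * (P Q z x - P Q x x) + (P Q u x)⁻¹ * (P Q u x)⁻¹ * Q (z - x) * P Q u x) • u := by
    (module)
  rw [h7, h5]
  simp

/-- The Siegel transformation as a product of two reflections. -/
lemma refl_mul_refl_eq_sg {a w : V} (ha : Q a = 0) (hw : P Q a w = 0) (hc : Q w ≠ 0)
    (hc' : Q (w + Q w • a) ≠ 0) : refl Q w hc * refl Q (w + Q w • a) hc' = sg Q a w := by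
  have hw' : Q (w + Q w • a) = Q w := by
    rw [Q_add, Q_smul, ha, map_smul, pol_comm Q w a, hw]
    simp
  apply OG_ext
  intro x
  have h1 : P Q w (w + Q w • a) = 2 * Q w := by
    rw [map_add, map_smul, pol_self, pol_comm Q w a, hw]
    simp
  have h2 : (refl Q w hc).1 (w + Q w • a) = Q w • a - w := by
    rw [refl_apply, h1]
    have : (Q w)⁻¹ * (2 * Q w) = 2 := by field_simp
    rw [this, two_smul]
    abel
  rw [mul_apply', refl_apply hc', map_sub, map_smul, h2, hw', refl_apply hc, sg_apply ha hw]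
  simp only [map_add, map_smul, LinearMap.add_apply, LinearMap.smul_apply, smul_eq_mul]
  have hi : (Q w)⁻¹ * Q w = 1 := inv_mul_cancel₀ hc
  have e : ((Q w)⁻¹ * (P Q w x + Q w * P Q a x)) = (Q w)⁻¹ * P Q w x + P Q a x := by
    rw [mul_add, ← mul_assoc, hi, one_mul]
  rw [e]
  have e2 : ((Q w)⁻¹ * P Q w x + P Q a x) • (Q w • a - w) =
      (((Q w)⁻¹ * Q w) * P Q w x + Q w * P Q a x) • a - ((Q w)⁻¹ * P Q w x) • w - (P Q a x) • w := by
    (module)
  rw [e2, hi]
  (module)

end Cfsg.Agent.Lib.Classical.Orth
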