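/-
Singular vectors in orthogonal spaces over finite fields; the Siegel subgroup equals Ω.
-/
import Mathlib
import Cfsg.Agent.Lib.Classical.OrthSiegel
import Cfsg.Agent.Lib.Geo.OmegaGen

set_option autoImplicit false
set_option linter.unusedSectionVars false

namespace Cfsg.Agent.Lib.Classical.Orth

open Cfsg.Agent.Lib.Classical.Witt Cfsg.Agent.Lib.Classical.Abs
open scoped commutatorElement
open Module MvPolynomial

local notation "P" => QuadraticMap.polarBilin

variable {F V : Type*} [Field F] [AddCommGroup V] [Module F V] {Q : QuadraticForm F V}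
variable [FiniteDimensional F V]

local notation "orth" => LinearMap.BilinForm.orthogonal (P Q)

/-- Chevalley–Warning: every subspace of dimension at least three contains a non-zero singular vector. -/
theorem exists_singular [Fintype F] (W : Submodule F V) (hW : 3 ≤ finrank F W) :
    ∃ x ∈ W, x ≠ 0 ∧ Q x = 0 := by
  classical
  obtain ⟨e, he⟩ := exists_linearIndependent_of_le_finrank (R := F) hW
  let x : Fin 3 → V := fun i => (e i : V)
  have hx : LinearIndependent F x := he.map' W.subtype (Submodule.ker_subtype W)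
  let g : Fin 3 → Fin 3 → F := fun i j => if i < j then P Q (x i) (x j) else if i = j then Q (x i) else 0
  let Pp : MvPolynomial (Fin 3) F := ∑ i, ∑ j, C (g i j) * (X i * X j)
  have hdeg : Pp.totalDegree < Fintype.card (Fin 3) := by
    have h1 : Pp.totalDegree ≤ 2 := by
      refine totalDegree_finsetSum_le fun i _ => totalDegree_finsetSum_le fun j _ => ?_
      refine (totalDegree_mul _ _).trans ?_
      have h2 : (X i * X j : MvPolynomial (Fin 3) F).totalDegree ≤ 2 := by
        refine (totalDegree_mul _ _).trans ?_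
        simp
      simp only [totalDegree_C, zero_add]
      exact h2
    simp only [Fintype.card_fin]
    omega
  have heval : ∀ a : Fin 3 → F, eval a Pp = Q (∑ i, a i • x i) := by
    intro a
    simp only [Pp, map_sum, map_mul, eval_C, eval_X]
    simp only [Fin.sum_univ_three]
    rw [Q_add, Q_add, Q_smul, Q_smul, Q_smul]
    simp only [map_add, map_smul, LinearMap.add_apply, LinearMap.smul_apply, smul_eq_mul]
    simp [g]
    ring
  haveI := ringChar.charP F
  have hdvd := char_dvd_card_solutions (K := F) (σ := Fin 3) (ringChar F) hdeg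
  by_contra hcon
  push Not at hcon
  have hall : ∀ a : {a : Fin 3 → F // eval a Pp = 0}, a.1 = 0 := by
    rintro ⟨a, ha⟩
    by_contra ha0
    have hne : ∑ i, a i • x i ≠ 0 := by
      intro h
      apply ha0
      funext i
      exact Fintype.linearIndependent_iff.1 hx a h i
    refine hcon _ ?_ hne (by rw [← heval]; exact ha)
    exact W.sum_mem fun i _ => W.smul_mem _ (e i).2
  have hzero : eval (0 : Fin 3 → F) Pp = 0 := by
    rw [heval]
    simp
  have hcard : Fintype.card {a : Fin 3 → F // eval a Pp = 0} = 1 := by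
    rw [Fintype.card_eq_one_iff]
    refine ⟨⟨0, hzero⟩, fun y => Subtype.ext (hall y)⟩
  rw [hcard] at hdvd
  exact CharP.char_ne_one F (ringChar F) (Nat.dvd_one.1 hdvd)

/-- A singular vector in the perp, outside the subspace. -/
lemma exists_singular_orth [Fintype F] (hQ : (P Q).Nondegenerate) (W : Submodule F V)
    (h : 2 * finrank F W + 3 ≤ finrank F V) : ∃ z ∈ orth W, Q z = 0 ∧ z ∉ W := by
  obtain ⟨W', hW'⟩ := Submodule.exists_isCompl W
  have h1 := LinearMap.BilinForm.finrank_orthogonal hQ W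
  have h3 := Submodule.finrank_add_eq_of_isCompl hW'
  have h4 := Submodule.finrank_sup_add_finrank_inf_eq (orth W) W'
  have h5 := Submodule.finrank_le (orth W ⊔ W')
  obtain ⟨z, hz, hz0, hQz⟩ := exists_singular (Q := Q) (orth W ⊓ W') (by omega)
  refine ⟨z, hz.1, hQz, fun hzW => hz0 ?_⟩
  have : z ∈ W ⊓ W' := ⟨hzW, hz.2⟩
  rw [hW'.inf_eq_bot] at this
  simpa using this

/-- The perp of a small subspace is spanned by its singular vectors. -/
lemma span_singular [Fintype F] (hQ : (P Q).Nondegenerate) (W : Submodule F V)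
    (h : 2 * finrank F W + 3 ≤ finrank F V) {y : V} (hy : y ∈ orth W) :
    y ∈ Submodule.span F {s | s ∈ orth W ∧ Q s = 0} := by
  obtain ⟨z, hz, hQz, hzW⟩ := exists_singular_orth hQ W h
  set S := Submodule.span F {s | s ∈ orth W ∧ Q s = 0} with hS
  have hz' : z ∈ S := Submodule.subset_span ⟨hz, hQz⟩
  have key : ∀ y ∈ orth W, P Q z y ≠ 0 → y ∈ S := by
    intro y hy hne
    have h1 : Q (y + (-(Q y / P Q z y)) • z) = 0 := by
      rw [Q_add, Q_smul, hQz, map_smul, smul_eq_mul, pol_comm Q y z]
      field_simp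
      ring
    have h3 : y + (-(Q y / P Q z y)) • z ∈ S :=
      Submodule.subset_span ⟨(orth W).add_mem hy ((orth W).smul_mem _ hz), h1⟩
    have h4 : y = (y + (-(Q y / P Q z y)) • z) - (-(Q y / P Q z y)) • z := by abel
    rw [h4]
    exact S.sub_mem h3 (S.smul_mem _ hz')
  -- a partner of `z` in the perp
  obtain ⟨y₀, hy₀, hne⟩ : ∃ y₀ ∈ orth W, P Q z y₀ ≠ 0 := by
    by_contra hcon
    push Not at hcon
    apply hzW
    rw [← LinearMap.BilinForm.orthogonal_orthogonal hQ P_refl W, mem_orth]
    intro u hu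
    rw [pol_comm]
    exact hcon u hu
  by_cases hzy : P Q z y = 0
  · have h1 : y = (y + y₀) - y₀ := by abel
    rw [h1]
    refine S.sub_mem (key _ ((orth W).add_mem hy hy₀) ?_) (key _ hy₀ hne)
    rw [map_add, hzy, zero_add]
    exact hne
  · exact key y hy hzy

/-- A singular vector in the perp not orthogonal to a given vector outside the subspace. -/
lemma exists_sing [Fintype F] (hQ : (P Q).Nondegenerate) (W : Submodule F V)
    (h : 2 * finrank F W + 3 ≤ finrank F V) {x : V} (hx : x ∉ W) :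
    ∃ u ∈ orth W, Q u = 0 ∧ P Q u x ≠ 0 := by
  by_contra hcon
  push Not at hcon
  apply hx
  rw [← LinearMap.BilinForm.orthogonal_orthogonal hQ P_refl W, mem_orth]
  intro y hy
  have h1 := span_singular hQ W h hy
  clear hy
  induction h1 using Submodule.span_induction with
  | mem s hs => exact hcon s hs.1 hs.2
  | zero => simp
  | add a b _ _ ha hb =>
    rw [map_add, LinearMap.add_apply, ha, hb, add_zero]
  | smul c a _ ha =>
    rw [map_smul, LinearMap.smul_apply, ha, smul_zero]

lemma mem_orth_pair {u v x : V} : x ∈ orth (Submodule.span F {u, v}) ↔ P Q u x = 0 ∧ P Q v x = 0 := by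
  rw [mem_orth]
  constructor
  · intro h
    exact ⟨h u (Submodule.subset_span (by simp)), h v (Submodule.subset_span (by simp))⟩
  · rintro ⟨h1, h2⟩ y hy
    obtain ⟨a, b, rfl⟩ := Submodule.mem_span_pair.mp hy
    simp only [map_add, map_smul, LinearMap.add_apply, LinearMap.smul_apply, h1, h2, smul_zero, add_zero]

lemma mem_orth_singleton {u x : V} : x ∈ orth (Submodule.span F {u}) ↔ P Q u x = 0 := by
  rw [mem_orth]
  constructor
  · intro h
    exact h u (Submodule.mem_span_singleton_self u)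
  · rintro h y hy
    obtain ⟨a, rfl⟩ := Submodule.mem_span_singleton.mp hy
    rw [map_smul, LinearMap.smul_apply, h, smul_zero]

/-- Two vectors in the perp of a pair with polar value one. -/
lemma exists_pair_orth (hQ : (P Q).Nondegenerate) (hn : 5 ≤ finrank F V) (u v : V) :
    ∃ z z', P Q u z = 0 ∧ P Q v z = 0 ∧ P Q u z' = 0 ∧ P Q v z' = 0 ∧ P Q z z' = 1 := by
  set W := Submodule.span F {u, v} with hW
  have h1 := LinearMap.BilinForm.finrank_orthogonal hQ W
  have h3 : finrank F W ≤ 2 := finrank_span_pair_le (F := F) u v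
  by_contra hcon
  push Not at hcon
  have hle : orth W ≤ W := by
    conv_rhs => rw [← LinearMap.BilinForm.orthogonal_orthogonal hQ P_refl W]
    intro z hz
    rw [mem_orth]
    intro z' hz'
    by_contra hne
    obtain ⟨a1, a2⟩ := mem_orth_pair.mp hz
    obtain ⟨a3, a4⟩ := mem_orth_pair.mp hz'
    refine hcon z' ((P Q z' z)⁻¹ • z) a3 a4 ?_ ?_ ?_
    · rw [map_smul, a1, smul_zero]
    · rw [map_smul, a2, smul_zero]
    · rw [map_smul, smul_eq_mul, inv_mul_cancel₀ hne]
  have h4 := Submodule.finrank_mono hle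
  omega

/-- A nonsingular vector in the perp of a pair. -/
lemma exists_nonsing_orth (hQ : (P Q).Nondegenerate) (hn : 5 ≤ finrank F V) (u v : V) :
    ∃ y, P Q u y = 0 ∧ P Q v y = 0 ∧ Q y ≠ 0 := by
  obtain ⟨z, z', h1, h3, h4, h5, h6⟩ := exists_pair_orth hQ hn u v
  by_cases hz : Q z = 0
  · by_cases hz' : Q z' = 0
    · refine ⟨z + z', by rw [map_add, h1, h4, add_zero], by rw [map_add, h3, h5, add_zero], ?_⟩
      rw [Q_add, hz, hz', h6]
      simp
    · exact ⟨z', h4, h5, hz'⟩
  · exact ⟨z, h1, h3, hz⟩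

omit [FiniteDimensional F V] in
lemma finrank_sing_le (x : V) : finrank F (Submodule.span F {x}) ≤ 1 := by
  by_cases hx : x = 0
  · subst hx
    rw [Submodule.span_singleton_eq_bot.mpr rfl, finrank_bot]
    omega
  · rw [finrank_span_singleton hx]

/-- Move lemma. -/
theorem exists_move_sg [Fintype F] (hQ : (P Q).Nondegenerate) (hn : 5 ≤ finrank F V) {x z : V}
    (hxz : Q x = Q z) (hx : x ∉ Submodule.span F {z - x}) :
    ∃ u y, Q u = 0 ∧ P Q u y = 0 ∧ (sg Q u y).1 x = z := by
  have hr : finrank F (Submodule.span F {z - x}) ≤ 1 := finrank_sing_le _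
  obtain ⟨u, hu, hQu, hs⟩ := exists_sing hQ (Submodule.span F {z - x}) (by omega) hx
  have hd := mem_orth_singleton.mp hu
  rw [pol_comm] at hd
  exact ⟨u, _, hQu, by rw [map_smul, hd, smul_zero], sg_move hQu hd hxz hs⟩

/-- The subgroup generated by all Siegel transformations. -/
def EE (Q : QuadraticForm F V) : Subgroup (OG Q) :=
  Subgroup.closure {g | ∃ a w, Q a = 0 ∧ P Q a w = 0 ∧ g = sg Q a w}

lemma sg_mem_EE {a w : V} (ha : Q a = 0) (hw : P Q a w = 0) : sg Q a w ∈ EE Q :=
  Subgroup.subset_closure ⟨a, w, ha, hw, rfl⟩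

lemma EE_conj (g x : OG Q) (hx : x ∈ EE Q) : g * x * g⁻¹ ∈ EE Q := by
  induction hx using Subgroup.closure_induction with
  | mem x hx =>
    obtain ⟨a, w, ha, hw, rfl⟩ := hx
    rw [sg_conj ha hw]
    exact sg_mem_EE (by rw [OG_pres, ha]) (by rw [OG_polar, hw])
  | one => simp
  | mul x y _ _ h1 h3 =>
    have : g * (x * y) * g⁻¹ = (g * x * g⁻¹) * (g * y * g⁻¹) := by group
    rw [this]
    exact Subgroup.mul_mem _ h1 h3
  | inv x _ h1 =>
    have : g * x⁻¹ * g⁻¹ = (g * x * g⁻¹)⁻¹ := by group
    rw [this]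
    exact Subgroup.inv_mem _ h1

/-- A Siegel element with nonsingular second vector is a commutator. -/
lemma sg_mem_comm_nonsing [Fintype F] (hQ : (P Q).Nondegenerate) (hn : 5 ≤ finrank F V) {a w : V}
    (ha : Q a = 0) (hw : P Q a w = 0) (hc : Q w ≠ 0) : sg Q a w ∈ commutator (OG Q) := by
  have hw' : Q (w + Q w • a) = Q w := by
    rw [Q_add, Q_smul, ha, map_smul, pol_comm Q w a, hw]
    simp
  have hc' : Q (w + Q w • a) ≠ 0 := by rw [hw']; exact hc
  have hnot : w ∉ Submodule.span F {(w + Q w • a) - w} := by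
    intro hm
    obtain ⟨t, ht⟩ := Submodule.mem_span_singleton.mp hm
    apply hc
    rw [← ht, Q_smul]
    have : (w + Q w • a) - w = Q w • a := by abel
    rw [this, Q_smul, ha]
    simp
  obtain ⟨u, y, hu, hy, hm⟩ := exists_move_sg hQ hn hw'.symm hnot
  have h1 := refl_conj_of_move hc' hc (sg Q u y) hm
  rw [← refl_mul_refl_eq_sg ha hw hc hc', ← h1]
  have h3 : refl Q w hc * (sg Q u y * refl Q w hc * (sg Q u y)⁻¹) = ⁅refl Q w hc, sg Q u y⁆ := by
    rw [commutatorElement_def, refl_inv]
    group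
  rw [h3]
  exact Subgroup.commutator_mem_commutator trivial trivial

/-- Every Siegel element is in Ω. -/
lemma sg_mem_comm [Fintype F] (hQ : (P Q).Nondegenerate) (hn : 5 ≤ finrank F V) {a w : V}
    (ha : Q a = 0) (hw : P Q a w = 0) : sg Q a w ∈ commutator (OG Q) := by
  by_cases hc : Q w = 0
  · obtain ⟨z, h1, h3, h4⟩ := exists_nonsing_orth hQ hn a w
    have e : sg Q a w = sg Q a (w + z) * sg Q a (-z) := by
      rw [sg_add ha (by rw [map_add, hw, h1, add_zero]) (by rw [map_neg, h1, neg_zero])]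
      congr 1
      abel
    rw [e]
    refine Subgroup.mul_mem _ (sg_mem_comm_nonsing hQ hn ha (by rw [map_add, hw, h1, add_zero]) ?_)
      (sg_mem_comm_nonsing hQ hn ha (by rw [map_neg, h1, neg_zero]) (by rw [QuadraticMap.map_neg]; exact h4))
    rw [Q_add, hc, h3, add_zero, zero_add]
    exact h4
  · exact sg_mem_comm_nonsing hQ hn ha hw hc

lemma EE_le [Fintype F] (hQ : (P Q).Nondegenerate) (hn : 5 ≤ finrank F V) : EE Q ≤ commutator (OG Q) := by
  rw [EE, Subgroup.closure_le]
  rintro g ⟨a, w, ha, hw, rfl⟩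
  exact sg_mem_comm hQ hn ha hw

/-- Ω is generated by Siegel elements. -/
theorem EE_eq_comm [Fintype F] (hQ : (P Q).Nondegenerate) (hn : 5 ≤ finrank F V) :
    EE Q = commutator (OG Q) := by
  refine le_antisymm (EE_le hQ hn) ?_
  have htop : Rf Q = ⊤ := Rf_eq_top hQ (Or.inr (by omega))
  have hgen : ∀ x : OG Q, x ∈ Subgroup.closure {g | ∃ (v : V) (hv : Q v ≠ 0), g = refl Q v hv} := by
    intro x
    change x ∈ Rf Q
    rw [htop]
    trivial
  unfold commutator
  rw [Subgroup.commutator_le]
  intro x _ y _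
  refine Cfsg.Agent.Lib.Geo.comm_mem_of_gen _ (EE Q) (fun g _ e he => EE_conj g e he) ?_ x (hgen x) y (hgen y)
  rintro _ ⟨a, ha, rfl⟩ _ ⟨b, hb, rfl⟩
  by_cases hab : b ∈ Submodule.span F {a}
  · obtain ⟨c, hc⟩ := Submodule.mem_span_singleton.mp hab
    subst hc
    have hc0 : c ≠ 0 := by
      rintro rfl
      simp at hb
    rw [refl_smul ha hc0 hb, commutatorElement_self]
    exact Subgroup.one_mem _
  · set z := (refl Q a ha).1 b with hz
    have hQz : Q z = Q b := OG_pres _ _
    have hzb : z - b = (-((Q a)⁻¹ * P Q a b)) • a := by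
      rw [hz, refl_apply]
      (module)
    have hnot : b ∉ Submodule.span F {z - b} := by
      intro hm
      apply hab
      have : Submodule.span F {z - b} ≤ Submodule.span F {a} := by
        rw [Submodule.span_singleton_le_iff_mem, hzb]
        exact Submodule.smul_mem _ _ (Submodule.mem_span_singleton_self a)
      exact this hm
    obtain ⟨u, y, hu, hy, hm⟩ := exists_move_sg hQ hn hQz.symm hnot
    have hz0 : Q z ≠ 0 := by rw [hQz]; exact hb
    have h1 := refl_conj_of_move hz0 hb (sg Q u y) hm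
    have h3 := refl_conj_of_move hz0 hb (refl Q a ha) rfl
    have h4 : ⁅refl Q a ha, refl Q b hb⁆ =
        sg Q u y * (refl Q b hb * (sg Q u y)⁻¹ * (refl Q b hb)⁻¹) := by
      rw [commutatorElement_def, h3, ← h1]
      group
    rw [h4]
    exact Subgroup.mul_mem _ (sg_mem_EE hu hy) (EE_conj _ _ (Subgroup.inv_mem _ (sg_mem_EE hu hy)))

/-- The subgroup generated by Siegel elements with both vectors singular. -/
def EEs (Q : QuadraticForm F V) : Subgroup (OG Q) :=
  Subgroup.closure {g | ∃ u v, Q u = 0 ∧ Q v = 0 ∧ P Q u v = 0 ∧ g = sg Q u v}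

theorem EEs_eq [Fintype F] (hQ : (P Q).Nondegenerate) (hn : 5 ≤ finrank F V) : EEs Q = EE Q := by
  apply le_antisymm
  · rw [EEs, Subgroup.closure_le]
    rintro g ⟨u, v, hu, _, huv, rfl⟩
    exact sg_mem_EE hu huv
  · rw [EE, Subgroup.closure_le]
    rintro g ⟨a, w, ha, hw, rfl⟩
    have hr : finrank F (Submodule.span F {a}) ≤ 1 := finrank_sing_le _
    have h1 := span_singular hQ (Submodule.span F {a}) (by omega) (mem_orth_singleton.mpr hw)
    clear hw
    have key : P Q a w = 0 ∧ ∀ c : F, sg Q a (c • w) ∈ EEs Q := by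
      induction h1 using Submodule.span_induction with
      | mem s hs =>
        have hs1 := mem_orth_singleton.mp hs.1
        refine ⟨hs1, fun c => Subgroup.subset_closure ⟨a, c • s, ha, ?_, ?_, rfl⟩⟩
        · rw [Q_smul, hs.2, mul_zero]
        · rw [map_smul, hs1, smul_zero]
      | zero =>
        refine ⟨map_zero _, fun c => ?_⟩
        rw [smul_zero, sg_zero]
        exact Subgroup.one_mem _
      | add x y _ _ h3 h4 =>
        refine ⟨by rw [map_add, h3.1, h4.1, add_zero], fun c => ?_⟩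
        rw [smul_add, ← sg_add ha (by rw [map_smul, h3.1, smul_zero]) (by rw [map_smul, h4.1, smul_zero])]
        exact Subgroup.mul_mem _ (h3.2 c) (h4.2 c)
      | smul d x _ h3 =>
        refine ⟨by rw [map_smul, h3.1, smul_zero], fun c => ?_⟩
        rw [smul_smul]
        exact h3.2 _
    have := key.2 1
    rwa [one_smul] at this

/-- A Siegel element with singular vectors is a commutator of Siegel elements. -/
lemma sg_eq_comm (hQ : (P Q).Nondegenerate) (hn : 5 ≤ finrank F V) {u v : V} (hu : Q u = 0) (hv : Q v = 0)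
    (huv : P Q u v = 0) : ∃ z z', P Q u z = 0 ∧ P Q v z' = 0 ∧ ⁅sg Q u z, sg Q v z'⁆ = sg Q u v := by
  obtain ⟨z, z', h1, h3, h4, h5, h6⟩ := exists_pair_orth hQ hn u v
  refine ⟨z, z', h1, h5, ?_⟩
  rw [comm_sg hu hv huv h1 h3 h4 h5, h6, one_smul]

/-- Ω is perfect in dimension at least five. -/
theorem comm_perfect [Fintype F] (hQ : (P Q).Nondegenerate) (hn : 5 ≤ finrank F V) :
    commutator (commutator (OG Q)) = ⊤ := by
  rw [eq_top_iff]
  intro g _
  have hg : (g : OG Q) ∈ EEs Q := by
    rw [EEs_eq hQ hn, EE_eq_comm hQ hn]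
    exact g.2
  have key : ∀ x ∈ EEs Q, ∃ hx : x ∈ commutator (OG Q), (⟨x, hx⟩ : commutator (OG Q)) ∈
      commutator (commutator (OG Q)) := by
    intro x hx
    induction hx using Subgroup.closure_induction with
    | mem x hx =>
      obtain ⟨u, v, hu, hv, huv, rfl⟩ := hx
      obtain ⟨z, z', h1, h3, h4⟩ := sg_eq_comm hQ hn hu hv huv
      have hA := sg_mem_comm hQ hn hu h1
      have hB := sg_mem_comm hQ hn hv h3
      refine ⟨sg_mem_comm hQ hn hu huv, ?_⟩
      have : (⟨sg Q u v, sg_mem_comm hQ hn hu huv⟩ : commutator (OG Q)) =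
          ⁅(⟨_, hA⟩ : commutator (OG Q)), (⟨_, hB⟩ : commutator (OG Q))⁆ := by
        apply Subtype.ext
        exact h4.symm
      rw [this]
      exact Subgroup.commutator_mem_commutator trivial trivial
    | one => exact ⟨Subgroup.one_mem _, Subgroup.one_mem _⟩
    | mul x y _ _ h1 h3 =>
      obtain ⟨a1, a2⟩ := h1
      obtain ⟨b1, b2⟩ := h3
      exact ⟨Subgroup.mul_mem _ a1 b1, Subgroup.mul_mem _ a2 b2⟩
    | inv x _ h1 =>
      obtain ⟨a1, a2⟩ := h1
      exact ⟨Subgroup.inv_mem _ a1, Subgroup.inv_mem _ a2⟩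
  obtain ⟨_, h⟩ := key _ hg
  exact h

end Cfsg.Agent.Lib.Classical.Orth
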